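import Cfsg.Agent.H368.Two.TitsDeg
import Cfsg.Agent.H651.Two.Row

/-!
# The row of the Tits group (helper368)

Degrees 78, 351, 650, 675.
-/

set_option autoImplicit false

namespace Cfsg.Agent.H368.Two.Tits

open Cfsg Cfsg.Agent.H651.Two Cfsg.Agent.H596.OneFacts
open Cfsg.Agent.SporadicB.RuTits
open Cfsg.Agent.H678.DG.Tits Cfsg.Agent.H368.Two.TitsDeg

universe u

theorem two_T {p : ℕ} [hp : Fact p.Prime] (hd : p ∣ Nat.card T) : Two p T := by
  have h := prime_mem hp.out (L := [(2, 11), (3, 3), (5, 2), (13, 1)]) (by decide) card_T.symm hd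
  simp only [List.map_cons, List.map_nil, List.mem_cons, List.not_mem_nil, or_false] at h
  rcases h with rfl | rfl | rfl | rfl
  · exact two_of_degs deg_78 deg_650 (by norm_num) (by norm_num) (by norm_num)
  · exact two_of_degs deg_78 deg_351 (by norm_num) (by norm_num) (by norm_num)
  · exact two_of_degs deg_650 deg_675 (by norm_num) (by norm_num) (by norm_num)
  · exact two_of_degs deg_78 deg_650 (by norm_num) (by norm_num) (by norm_num)

/-- **The row of the Tits group.** -/
theorem two_tits {S : Type u} [Group S] (h : Cfsg.Lie.IsoTits S) {p : ℕ} [hp : Fact p.Prime]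
    (hd : p ∣ Nat.card S) : TwoOr p S := by
  obtain ⟨e⟩ := h
  obtain ⟨f⟩ := H707.RowTits.equiv
  exact twoOr_of ⟨e.trans f⟩ hd fun h => two_T h

end Cfsg.Agent.H368.Two.Tits
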