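import Cfsg.Agent.H678.DG.Tits

/-!
# Two more degrees of the Tits group (helper368)

The collinearity relation (valency 10) of the generalized octagon on 1755 points has the eigenvalues
10, 5, 1, -3, -5; the eigenvalues 5 and -3 give the degrees 351 and 675.
-/

set_option autoImplicit false
set_option maxRecDepth 100000
set_option exponentiation.threshold 5000

namespace Cfsg.Agent.H368.Two.TitsDeg

open Cfsg Cfsg.Agent.H707.RowTitsModel Cfsg.Agent.H678.DG Cfsg.Agent.H678.DG.Tits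
open Cfsg.Agent.SporadicB.RuData Cfsg.Agent.SporadicB.RuOrder Cfsg.Agent.SporadicB.RuTitsData
open Cfsg.Agent.SporadicB.RuTits
open Cfsg.Agent.Lib.BitNet Cfsg.Agent.Lib.BitNetSimple
open MulAction

/-- Words moving the base point to the representatives of the classes. -/
def wd : Fin 5 → List (ℕ × ℕ) := ![[], x0, x0 ++ x1.reverse,
  x0 ++ (x0 ++ (x1 ++ (x1 ++ (x1 ++ (x0 ++ (x0 ++ (x0 ++ x0))))))),
  x0 ++ (x1.reverse ++ (x1.reverse ++ (x0 ++ (x1 ++ x0))))]

theorem wd_mem' : ∀ i, i ≠ 0 → Mem T (wd i) := by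
  intro i hi
  fin_cases i
  · exact absurd rfl hi
  · exact tmem0
  · exact tmem0.append tmem1.reverse
  · exact tmem0.append (tmem0.append (tmem1.append (tmem1.append (tmem1.append (tmem0.append
      (tmem0.append (tmem0.append tmem0)))))))
  · exact tmem0.append (tmem1.reverse.append (tmem1.reverse.append (tmem0.append (tmem1.append tmem0))))

theorem wd_app : ∀ i, Nat.beq (appF (wd i) 1968) (ry i) = true := by decide +kernel

/-- The relation of valency 10. -/
noncomputable def E1 (x y : X) : Bool :=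
  @decide (∃ g : T, g • r 0 = x ∧ g • r 1 = y) (Classical.propDecidable _)

theorem E1_iff (x y : X) : E1 x y = true ↔ ∃ g : T, g • r 0 = x ∧ g • r 1 = y := by
  unfold E1
  exact @decide_eq_true_iff _ (Classical.propDecidable _)

theorem E1_smul (g : T) (x y : X) : E1 (g • x) (g • y) = E1 x y := by
  rw [Bool.eq_iff_iff, E1_iff, E1_iff]
  constructor
  · rintro ⟨h, h1, h2⟩
    exact ⟨g⁻¹ * h, by rw [mul_smul, h1, inv_smul_smul], by rw [mul_smul, h2, inv_smul_smul]⟩
  · rintro ⟨h, h1, h2⟩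
    exact ⟨g * h, by rw [mul_smul, h1], by rw [mul_smul, h2]⟩

/-- The class of a point is invariant under the stabiliser. -/
theorem cls_inv {g : T} (hg : g • r 0 = r 0) (x : X) : cls (g • x) = cls x := by
  rw [cls_iff, smul_val]
  have h1 : g.1 p1 = p1 := congrArg Subtype.val hg
  rw [inv _ g.2 h1]
  exact cls_spec x

theorem exists_stab (x : X) : ∃ g : T, g • r 0 = r 0 ∧ g • r (cls x) = x := by
  obtain ⟨k, hk⟩ := orb_i (cls x)
  obtain ⟨g, hg, hgx⟩ := exists_of_iterF (b := (r (cls x)).1) gensT1 hk (cls_spec x)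
  exact ⟨⟨g, hg.1⟩, Subtype.ext hg.2, Subtype.ext hgx⟩

/-- The masks of the neighbours of the representatives. -/
noncomputable def nb (i : Fin 5) : ℕ := appMF (wd i) c10

/-- The neighbours of the representatives, for a word. -/
theorem E1_of_word {i : Fin 5} (h : Mem T (wd i)) (y : X) : E1 (r i) y = true ↔ (nb i).testBit y.1 = true := by
  obtain ⟨ok, hT⟩ := h
  set γ : T := ⟨perm ok, hT⟩ with hγ
  have h0 : γ • r 0 = r i := by
    refine Subtype.ext (Fin.ext ?_)
    have h1 := Nat.eq_of_beq_eq_true (wd_app i)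
    rw [appF_eq] at h1
    show ((perm ok (r 0).1 : Fin 4060) : ℕ) = ry i
    rw [perm_apply]
    exact h1
  have h2 : (nb i).testBit y.1 = c10.testBit (γ⁻¹ • y).1 := by
    have h3 := testBit_appM ok.valid c10 (γ⁻¹ • y).1
    have h4 : app (wd i) (γ⁻¹ • y).1 = y.1 := by
      have h5 : ((perm ok (γ⁻¹ • y).1 : Fin 4060) : ℕ) = app (wd i) (γ⁻¹ • y).1 := perm_apply _ _
      rw [← h5]
      have h6 : γ • γ⁻¹ • y = y := smul_inv_smul _ _
      exact congrArg (fun z : X => (z.1 : ℕ)) h6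
    rw [h4] at h3
    unfold nb
    rw [appMF_eq]
    exact h3
  have h3 : c10.testBit (γ⁻¹ • y).1 = true ↔ cls (γ⁻¹ • y) = 1 := (cls_iff _ 1).symm
  rw [h2, h3, E1_iff]
  constructor
  · rintro ⟨g, hg0, hg1⟩
    have h4 : (γ⁻¹ * g) • r 0 = r 0 := by rw [mul_smul, hg0, ← h0, inv_smul_smul]
    have h5 := cls_inv h4 (r 1)
    rw [mul_smul, hg1, cls_r] at h5
    exact h5
  · intro h4
    obtain ⟨g, hg0, hg1⟩ := exists_stab (γ⁻¹ • y)
    rw [h4] at hg1
    exact ⟨γ * g, by rw [mul_smul, hg0, h0], by rw [mul_smul, hg1, smul_inv_smul]⟩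

theorem E1_zero (y : X) : E1 (r 0) y = true ↔ (nb 0).testBit y.1 = true := by
  have h1 : nb 0 = c10 := rfl
  rw [h1, E1_iff]
  have h3 : c10.testBit y.1 = true ↔ cls y = 1 := (cls_iff _ 1).symm
  rw [h3]
  constructor
  · rintro ⟨g, hg0, hg1⟩
    have h5 := cls_inv hg0 (r 1)
    rwa [hg1, cls_r] at h5
  · intro h4
    obtain ⟨g, hg0, hg1⟩ := exists_stab y
    rw [h4] at hg1
    exact ⟨g, hg0, hg1⟩

theorem E1_r (i : Fin 5) (y : X) : E1 (r i) y = true ↔ (nb i).testBit y.1 = true := by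
  by_cases h : i = 0
  · subst h
    exact E1_zero y
  · exact E1_of_word (wd_mem' i h) y

/-- The collapsed matrix. -/
def B1 : Fin 5 → Fin 5 → ℕ := ![![0, 10, 0, 0, 0], ![1, 1, 8, 0, 0], ![0, 1, 1, 8, 0], ![0, 0, 1, 1, 8],
  ![0, 0, 0, 5, 5]]

/-- The mask of the neighbours of a point in a class. -/
noncomputable def nbc (i j : Fin 5) : ℕ := Nat.land (nb i) (cm j)

theorem nbc_card : ∀ i j, Nat.beq (popc 12 (nbc i j)) (B1 i j) = true := by decide +kernel

theorem testBit_nbc (i j : Fin 5) (k : ℕ) : (nbc i j).testBit k = true ↔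
    ((nb i).testBit k = true ∧ (cm j).testBit k = true) := by
  have e : nbc i j = nb i &&& cm j := rfl
  rw [e, Nat.testBit_and, Bool.and_eq_true]

theorem count1 (i j : Fin 5) : (Finset.univ.filter fun y : X => E1 (r i) y = true ∧ cls y = j).card = B1 i j := by
  have h1 : (Finset.univ.filter fun y : X => E1 (r i) y = true ∧ cls y = j).card = (pts 4060 (nbc i j)).card := by
    rw [← Finset.card_map (Function.Embedding.subtype _)]
    congr 1
    ext y
    rw [Finset.mem_map, mem_pts, testBit_nbc]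
    constructor
    · rintro ⟨z, hz, rfl⟩
      obtain ⟨-, hz1, hz2⟩ := Finset.mem_filter.1 hz
      exact ⟨(E1_r i z).1 hz1, (cls_iff _ _).1 hz2⟩
    · rintro ⟨h1, h2⟩
      have h4 : (row 0).testBit y = true := by
        have h3 := Nat.eq_of_beq_eq_true (cm_row j)
        have h4 : Nat.land (cm j) (row 0) = cm j &&& row 0 := rfl
        rw [h4] at h3
        rw [← h3, Nat.testBit_and, Bool.and_eq_true] at h2
        exact h2.2
      exact ⟨⟨y, h4⟩, Finset.mem_filter.2 ⟨Finset.mem_univ _, (E1_r i _).2 h1, (cls_iff _ _).2 h2⟩, rfl⟩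
  rw [h1]
  have h2 := Nat.eq_of_beq_eq_true (nbc_card i j)
  apply le_antisymm
  · rw [← h2]
    exact card_pts_le (by norm_num) _
  · rw [← h2]
    refine card_pts_eq fun k hk => ?_
    by_contra hlt
    have h3 := cm_lt j
    rw [Nat.blt_eq] at h3
    have h4 : cm j < 2 ^ k := lt_of_lt_of_le h3 (Nat.pow_le_pow_right (by norm_num) (not_lt.1 hlt))
    rw [testBit_nbc, Nat.testBit_lt_two_pow h4] at hk
    exact Bool.noConfusion hk.2

/-- The degree for an eigenvalue. -/
theorem deg1 (a : Fin 5 → ℚ) (t : ℚ) (L : Fin 5 → Fin 5 → ℚ) (d : ℕ)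
    (ha : a 0 = 1) (hBa : ∀ i, ∑ j, (B1 i j : ℚ) * a j = t * a i)
    (hL : ∀ i j, ∑ l, L i l * ((B1 l j : ℚ) - if l = j then t else 0) =
      (if i = j then 1 else 0) - if j = 0 then a i else 0)
    (hd : (d : ℚ) * ∑ j, (kk j : ℚ) * (a j * a j) = (1755 : ℕ)) :
    ∃ χ : IrrCharacter T, charDegree (χ : T → ℂ) = d := by
  have := trans
  refine Sph.exists_of_graph_rat E1 E1_smul (r 0) (MulAction.stabilizer T (r 0)) (fun _ h => h) cls r ?_ ?_ B1 count1
    kk card_cls 0 (cls_r 0) a t L d 1755 card_X ha hBa hL hd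
  · intro g hg x
    exact cls_inv hg x
  · intro x
    obtain ⟨g, hg0, hg1⟩ := exists_stab x
    exact ⟨g, hg0, hg1⟩

theorem deg_351 : ∃ χ : IrrCharacter T, charDegree (χ : T → ℂ) = 351 :=
  deg1 ![1, 1/2, 1/8, 0, -1/64] 5 ![![0, 0, 0, 0, 0], ![1/10, 0, 0, 0, 0], ![1/20, 1/8, 0, 0, 0],
    ![1/80, 1/16, 1/8, 0, 0], ![0, 1/64, 1/16, 1/8, 0]] 351 (by decide +kernel) (by decide +kernel)
    (by decide +kernel) (by decide +kernel)

theorem deg_675 : ∃ χ : IrrCharacter T, charDegree (χ : T → ℂ) = 675 :=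
  deg1 ![1, -3/10, 1/40, 1/40, -1/64] (-3) ![![0, 0, 0, 0, 0], ![1/10, 0, 0, 0, 0], ![-1/20, 1/8, 0, 0, 0],
    ![1/80, -1/16, 1/8, 0, 0], ![0, 1/64, -1/16, 1/8, 0]] 675 (by decide +kernel) (by decide +kernel)
    (by decide +kernel) (by decide +kernel)

end Cfsg.Agent.H368.Two.TitsDeg
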